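import Mathlib

/-!
# The fundamental theorem of projective geometry (finite fields)

A map of nonzero vectors, compatible with lines, injective and surjective on points, in dimension at
least three is semilinear up to scalars.
-/

set_option autoImplicit false

namespace CfsgLib.Collineation

open Matrix

variable {ι : Type*} [Fintype ι] [DecidableEq ι] {F : Type*} [Field F]

/-- A point map given on representatives, compatible with lines. -/
structure IsCollineation (f : (ι → F) → (ι → F)) : Prop where
  ne_zero : ∀ x, x ≠ 0 → f x ≠ 0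
  line : ∀ u v w, u ≠ 0 → v ≠ 0 → w ≠ 0 → (∃ a b : F, w = a • u + b • v) →
    ∃ a b : F, f w = a • f u + b • f v
  inj : ∀ u v, u ≠ 0 → v ≠ 0 → (∃ c : F, f u = c • f v) → ∃ c : F, u = c • v
  surj : ∀ y, y ≠ 0 → ∃ x, x ≠ 0 ∧ ∃ c : F, y = c • f x

variable {f : (ι → F) → (ι → F)}

theorem IsCollineation.smul (hf : IsCollineation f) {u : ι → F} (hu : u ≠ 0) {c : F} (hc : c ≠ 0) :
    ∃ d : F, d ≠ 0 ∧ f (c • u) = d • f u := by
  obtain ⟨a, b, h⟩ := hf.line u u (c • u) hu hu (smul_ne_zero hc hu) ⟨c, 0, by simp⟩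
  refine ⟨a + b, fun h0 => hf.ne_zero _ (smul_ne_zero hc hu) ?_, by rw [h, add_smul]⟩
  rw [h, ← add_smul, h0, zero_smul]

omit [Fintype ι] in
theorem single_one_ne_zero (i : ι) : (Pi.single i (1 : F) : ι → F) ≠ 0 := by simp

theorem IsCollineation.mem_span (hf : IsCollineation f) (S : Finset ι) :
    ∀ x : ι → F, x ≠ 0 → (∀ i, x i ≠ 0 → i ∈ S) →
      f x ∈ Submodule.span F ((fun i => f (Pi.single i 1)) '' (S : Set ι)) := by
  induction S using Finset.induction with
  | empty =>
    intro x hx h
    exact absurd (funext fun i => by_contra fun hi => Finset.notMem_empty i (h i hi)) hx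
  | @insert a S haS ih =>
    intro x hx h
    have hmono : Submodule.span F ((fun i => f (Pi.single i 1)) '' (S : Set ι)) ≤
        Submodule.span F ((fun i => f (Pi.single i 1)) '' ((insert a S : Finset ι) : Set ι)) :=
      Submodule.span_mono (Set.image_mono (by simp))
    by_cases hxa : x a = 0
    · refine hmono (ih x hx fun i hi => ?_)
      rcases Finset.mem_insert.1 (h i hi) with rfl | h'
      · exact absurd hxa hi
      · exact h'
    have hea : f (Pi.single a 1) ∈
        Submodule.span F ((fun i => f (Pi.single i 1)) '' ((insert a S : Finset ι) : Set ι)) :=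
      Submodule.subset_span ⟨a, by simp, rfl⟩
    have hesingle : (Pi.single a 1 : ι → F) ≠ 0 := single_one_ne_zero a
    set r := x - x a • (Pi.single a 1 : ι → F) with hr
    by_cases hr0 : r = 0
    · have hxe : x = x a • (Pi.single a 1 : ι → F) := sub_eq_zero.1 hr0
      rw [hxe]
      obtain ⟨d, -, hd⟩ := hf.smul hesingle hxa
      rw [hd]
      exact Submodule.smul_mem _ _ hea
    · obtain ⟨c, d, hcd⟩ := hf.line r (Pi.single a 1) x hr0 hesingle hx ⟨1, x a, by rw [hr]; simp⟩
      rw [hcd]
      refine Submodule.add_mem _ (Submodule.smul_mem _ _ (hmono (ih r hr0 fun i hi => ?_))) (Submodule.smul_mem _ _ hea)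
      have hia : i ≠ a := by
        rintro rfl
        exact hi (by simp [hr])
      rcases Finset.mem_insert.1 (h i (by simpa [hr, hia] using hi)) with h' | h'
      · exact absurd h' hia
      · exact h'

theorem IsCollineation.span_eq_top (hf : IsCollineation f) :
    Submodule.span F (Set.range fun i => f (Pi.single i 1)) = ⊤ := by
  rw [eq_top_iff]
  intro y _
  by_cases hy : y = 0
  · rw [hy]; exact Submodule.zero_mem _
  obtain ⟨x, hx, c, rfl⟩ := hf.surj y hy
  refine Submodule.smul_mem _ _ ?_
  have := hf.mem_span Finset.univ x hx fun i _ => Finset.mem_univ i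
  simpa using this

theorem IsCollineation.comp_linear (hf : IsCollineation f) (e : (ι → F) ≃ₗ[F] (ι → F)) :
    IsCollineation (fun x => e (f x)) where
  ne_zero x hx := by simpa using hf.ne_zero x hx
  line u v w hu hv hw h := by
    obtain ⟨a, b, h'⟩ := hf.line u v w hu hv hw h
    exact ⟨a, b, by simp [h']⟩
  inj u v hu hv := by
    rintro ⟨c, h⟩
    exact hf.inj u v hu hv ⟨c, e.injective (by simpa using h)⟩
  surj y hy := by
    obtain ⟨x, hx, c, h⟩ := hf.surj (e.symm y) (by simpa using hy)
    exact ⟨x, hx, c, e.symm.injective (by simpa using h)⟩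

variable [Finite F]

/-- The normalised case. -/
theorem IsCollineation.exists_ringEquiv (hf : IsCollineation f) (o : ι) (hcard : 3 ≤ Fintype.card ι)
    (h1 : ∀ i, ∃ a : F, f (Pi.single i 1) = a • Pi.single i 1)
    (h2 : ∀ i, i ≠ o → ∃ a : F, f (Pi.single o 1 + Pi.single i 1) = a • (Pi.single o 1 + Pi.single i 1)) :
    ∃ σ : F ≃+* F, ∀ x, x ≠ 0 → ∃ c : F, c ≠ 0 ∧ f x = c • (σ ∘ x) := by
  classical
  have he : ∀ i, (Pi.single i 1 : ι → F) ≠ 0 := single_one_ne_zero
  have hne : ∀ {x : ι → F}, x o = 1 → x ≠ 0 := fun {x} hx h0 => by simp [h0] at hx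
  choose ai hai using h1
  have hai0 : ∀ i, ai i ≠ 0 := fun i h0 => hf.ne_zero _ (he i) (by rw [hai, h0, zero_smul])
  have step : ∀ i, i ≠ o → ∀ t : F, ∃ s a : F, a ≠ 0 ∧
      f (Pi.single o 1 + t • Pi.single i 1) = a • (Pi.single o 1 + s • Pi.single i 1) := by
    intro i hi t
    have hx : (Pi.single o 1 + t • Pi.single i 1 : ι → F) ≠ 0 := hne (by simp [hi.symm])
    obtain ⟨a, b, hab⟩ := hf.line (Pi.single o 1) (Pi.single i 1) _ (he o) (he i) hx ⟨1, t, by simp⟩
    rw [hai, hai, smul_smul, smul_smul] at hab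
    have ha : a * ai o ≠ 0 := by
      intro h0
      rw [h0, zero_smul, zero_add] at hab
      obtain ⟨c, hc⟩ := hf.inj _ _ hx (he i) ⟨b, by rw [hab, hai, smul_smul]⟩
      simpa [hi.symm] using congrFun hc o
    refine ⟨b * ai i / (a * ai o), a * ai o, ha, ?_⟩
    rw [hab, smul_add, smul_smul, mul_div_cancel₀ _ ha]
  choose! s sa hsa hs using step
  have s0 : ∀ i, i ≠ o → s i 0 = 0 := by
    intro i hi
    have h := hs i hi 0
    rw [zero_smul, add_zero, hai] at h
    have := congrFun h i
    simpa [hi, hi.symm, hsa i hi 0] using this.symm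
  have s1 : ∀ i, i ≠ o → s i 1 = 1 := by
    intro i hi
    obtain ⟨a, ha⟩ := h2 i hi
    have h := hs i hi 1
    rw [one_smul, ha] at h
    have e1 : a = sa i 1 := by simpa [hi, hi.symm] using congrFun h o
    have e2 : a = sa i 1 * s i 1 := by simpa [hi, hi.symm] using congrFun h i
    exact mul_left_cancel₀ (hsa i hi 1) (by rw [← e2, e1, mul_one])
  -- vectors with `o`-coordinate one
  let h : (ι → F) → (ι → F) := fun x i => if i = o then 1 else s i (x i)
  have hcase : ∀ (k : ℕ) (x : ι → F), x o = 1 → (Finset.univ.filter fun i => i ≠ o ∧ x i ≠ 0).card = k →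
      ∃ c : F, c ≠ 0 ∧ f x = c • h x := by
    intro k
    induction k using Nat.strong_induction_on with
    | _ k ih =>
      intro x hxo hk
      set S := Finset.univ.filter fun i => i ≠ o ∧ x i ≠ 0 with hS
      have hmemS : ∀ i, i ∈ S ↔ i ≠ o ∧ x i ≠ 0 := fun i => by simp [hS]
      rcases le_or_gt S.card 1 with hle | hlt
      · rcases S.eq_empty_or_nonempty with hemp | ⟨i, hi⟩
        · have hx : x = Pi.single o 1 := by
            funext j
            by_cases hj : j = o
            · subst hj; simp [hxo]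
            · have : j ∉ S := hemp ▸ Finset.notMem_empty j
              simp only [hmemS, not_and, not_not] at this
              simp [hj, this hj]
          refine ⟨ai o, hai0 o, ?_⟩
          rw [hx, hai]
          congr 1
          funext j
          by_cases hj : j = o
          · subst hj; simp [h]
          · simp [h, hj, s0 j hj]
        · have hio := ((hmemS i).1 hi).1
          have huniq : ∀ j, j ∈ S → j = i := fun j hj => Finset.card_le_one.1 hle j hj i hi
          have hx : x = Pi.single o 1 + x i • Pi.single i 1 := by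
            funext j
            by_cases hjo : j = o
            · subst hjo; simp [hxo, Ne.symm hio]
            · by_cases hji : j = i
              · subst hji; simp [hjo]
              · have : x j = 0 := by_contra fun hx0 => hji (huniq j ((hmemS j).2 ⟨hjo, hx0⟩))
                simp [hjo, hji, this]
          refine ⟨sa i (x i), hsa i hio _, ?_⟩
          conv_lhs => rw [hx, hs i hio]
          congr 1
          funext j
          by_cases hjo : j = o
          · subst hjo; simp [h, Ne.symm hio]
          · by_cases hji : j = i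
            · subst hji; simp [h, hjo]
            · have : x j = 0 := by_contra fun hx0 => hji (huniq j ((hmemS j).2 ⟨hjo, hx0⟩))
              simp [h, hjo, hji, this, s0 j hjo]
      · obtain ⟨i, hi, j, hj, hij⟩ := Finset.one_lt_card.1 hlt
        have key : ∀ l, l ∈ S → ∃ c b : F, f x = c • h (Function.update x l 0) + b • Pi.single l 1 := by
          intro l hl
          have hlo := ((hmemS l).1 hl).1
          have hupo : Function.update x l 0 o = 1 := by rw [Function.update_of_ne hlo.symm, hxo]
          have hsub : (Finset.univ.filter fun i => i ≠ o ∧ Function.update x l 0 i ≠ 0) ⊆ S.erase l := by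
            intro a ha
            simp only [Finset.mem_filter, Finset.mem_univ, true_and] at ha
            by_cases hal : a = l
            · subst hal; simp at ha
            · rw [Function.update_of_ne hal] at ha
              exact Finset.mem_erase.2 ⟨hal, (hmemS a).2 ha⟩
          have hlt' := (Finset.card_le_card hsub).trans_lt (Finset.card_erase_lt_of_mem hl)
          obtain ⟨c', -, hc'⟩ := ih _ (hk ▸ hlt') (Function.update x l 0) hupo rfl
          obtain ⟨a, b, hab⟩ := hf.line (Function.update x l 0) (Pi.single l 1) x (hne hupo) (he l) (hne hxo)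
            ⟨1, x l, by
              funext a
              by_cases hal : a = l
              · subst hal; simp
              · simp [hal]⟩
          exact ⟨a * c', b * ai l, by rw [hab, hc', hai, smul_smul, smul_smul]⟩
        obtain ⟨c, b, e1⟩ := key i hi
        obtain ⟨c', b', e2⟩ := key j hj
        have hio := ((hmemS i).1 hi).1
        have hjo := ((hmemS j).1 hj).1
        have hcc : c = c' := by
          have := congrFun (e1.symm.trans e2) o
          simpa [h, hio.symm, hjo.symm] using this
        subst hcc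
        have hb : b = c * s i (x i) := by
          have := congrFun (e1.symm.trans e2) i
          simpa [h, hio, hij, s0 i hio] using this
        have hfx : f x = c • h x := by
          rw [e1, hb]
          funext a
          by_cases hai' : a = i
          · subst hai'; simp [h, hio, s0 a hio]
          · simp [h, hai']
        exact ⟨c, fun h0 => hf.ne_zero x (hne hxo) (by rw [hfx, h0, zero_smul]), hfx⟩
  -- vectors with `o`-coordinate zero
  let h0 : (ι → F) → (ι → F) := fun x i => if i = o then 0 else s i (x i)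
  have hzero : ∀ x : ι → F, x ≠ 0 → x o = 0 → ∃ c : F, c ≠ 0 ∧ f x = c • h0 x := by
    intro x hx hxo
    have hx1 : (x + Pi.single o 1 : ι → F) o = 1 := by simp [hxo]
    obtain ⟨c, -, hc⟩ := hcase _ _ hx1 rfl
    obtain ⟨a, b, hab⟩ := hf.line (x + Pi.single o 1) (Pi.single o 1) x (hne hx1) (he o) hx ⟨1, -1, by simp⟩
    rw [hc, hai, smul_smul, smul_smul] at hab
    have hmem : f x ∈ Submodule.span F ((fun i => f (Pi.single i 1)) '' ((Finset.univ.erase o : Finset ι) : Set ι)) :=
      hf.mem_span _ x hx fun i hi => Finset.mem_erase.2 ⟨fun e => hi (e ▸ hxo), Finset.mem_univ i⟩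
    have hz : f x o = 0 := by
      refine (LinearMap.mem_ker (f := LinearMap.proj (R := F) (φ := fun _ : ι => F) o)).1 (Submodule.span_le.2 ?_ hmem)
      rintro _ ⟨i, hi, rfl⟩
      simp only [SetLike.mem_coe, LinearMap.mem_ker, LinearMap.proj_apply, hai]
      have : i ≠ o := by simpa using hi
      simp [this.symm]
    have hb : b * ai o = -(a * c) := by
      rw [hab] at hz
      simp [h] at hz
      linear_combination hz
    have hfx : f x = (a * c) • h0 x := by
      rw [hab, hb]
      funext i
      by_cases hi : i = o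
      · subst hi; simp [h, h0]
      · simp [h, h0, hi]
    exact ⟨a * c, fun hz0 => hf.ne_zero x hx (by rw [hfx, hz0, zero_smul]), hfx⟩
  -- the maps `s i` coincide and are multiplicative
  have hmul : ∀ i j, i ≠ o → j ≠ o → i ≠ j → ∀ l a : F, s i (l * a) = s j l * s i a := by
    intro i j hi hj hij l a
    by_cases hl : l = 0
    · simp [hl, s0 i hi, s0 j hj]
    have hy : (a • Pi.single i 1 + Pi.single j 1 : ι → F) ≠ 0 := fun h0' => by
      simpa [hij.symm] using congrFun h0' j
    obtain ⟨c, hc0, hc⟩ := hzero _ hy (by simp [hi.symm, hj.symm])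
    obtain ⟨c', hc'0, hc'⟩ := hzero _ (smul_ne_zero hl hy) (by simp [hi.symm, hj.symm])
    obtain ⟨d, -, hd⟩ := hf.smul hy hl
    rw [hc, hc', smul_smul] at hd
    have ej := congrFun hd j
    have ei := congrFun hd i
    simp [h0, hj, hij.symm, s1 j hj] at ej
    simp [h0, hi, hij] at ei
    refine mul_left_cancel₀ hc'0 ?_
    rw [ei, ← mul_assoc, ej]
  obtain ⟨i₀, hi₀, j₀, hj₀, hij₀⟩ : ∃ i, i ≠ o ∧ ∃ j, j ≠ o ∧ i ≠ j := by
    have : 1 < (Finset.univ.erase o).card := by simp; omega
    obtain ⟨i, hi, j, hj, hij⟩ := Finset.one_lt_card.1 this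
    exact ⟨i, (Finset.mem_erase.1 hi).1, j, (Finset.mem_erase.1 hj).1, hij⟩
  set τ := s i₀ with hτ
  have hjτ : ∀ j, j ≠ o → s j = τ := by
    intro j hj
    by_cases hji : j = i₀
    · rw [hji]
    funext l
    have := hmul j i₀ hj hi₀ hji l 1
    rwa [mul_one, s1 j hj, mul_one] at this
  have hτmul : ∀ a b, τ (a * b) = τ a * τ b := fun a b => by
    have := hmul i₀ j₀ hi₀ hj₀ hij₀ a b
    rwa [hjτ j₀ hj₀] at this
  have hτadd : ∀ a b, τ (a + b) = τ a + τ b := by
    intro a b
    have hv : (b • Pi.single i₀ 1 + Pi.single j₀ 1 : ι → F) ≠ 0 := fun h0' => by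
      simpa [hij₀.symm] using congrFun h0' j₀
    set u : ι → F := Pi.single o 1 + a • Pi.single i₀ 1 with hu
    set v : ι → F := b • Pi.single i₀ 1 + Pi.single j₀ 1 with hv'
    have huo : u o = 1 := by simp [hu, hi₀.symm]
    have hxo : (u + v) o = 1 := by simp [hu, hv', hi₀.symm, hj₀.symm]
    obtain ⟨c, -, hc⟩ := hcase _ u huo rfl
    obtain ⟨c', -, hc'⟩ := hzero v hv (by simp [hv', hi₀.symm, hj₀.symm])
    obtain ⟨c'', hc''0, hc''⟩ := hcase _ (u + v) hxo rfl
    obtain ⟨α, β, hαβ⟩ := hf.line u v (u + v) (hne huo) hv (hne hxo) ⟨1, 1, by simp⟩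
    rw [hc, hc', hc'', smul_smul, smul_smul] at hαβ
    have eo := congrFun hαβ o
    have ej := congrFun hαβ j₀
    have ei := congrFun hαβ i₀
    simp [h, h0] at eo
    simp [h, h0, hu, hv', hj₀, hij₀.symm, s0 j₀ hj₀, s1 j₀ hj₀] at ej
    simp [h, h0, hu, hv', hi₀, hij₀, ← hτ] at ei
    rw [← eo, ← ej, ← mul_add] at ei
    exact mul_left_cancel₀ hc''0 ei
  let τh : F →+* F :=
    { toFun := τ, map_one' := s1 i₀ hi₀, map_zero' := s0 i₀ hi₀, map_mul' := hτmul, map_add' := hτadd }
  let σ : F ≃+* F := RingEquiv.ofBijective τh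
    ⟨τh.injective, Finite.injective_iff_surjective.1 τh.injective⟩
  have hσ : ∀ a, σ a = τ a := fun a => rfl
  refine ⟨σ, fun x hx => ?_⟩
  by_cases hxo : x o = 0
  · obtain ⟨c, hc0, hc⟩ := hzero x hx hxo
    refine ⟨c, hc0, ?_⟩
    rw [hc]
    congr 1
    funext i
    by_cases hi : i = o
    · subst hi; simp [h0, hxo]
    · simp [h0, hi, hjτ i hi, hσ]
  · set y := (x o)⁻¹ • x with hy
    have hyo : y o = 1 := by simp [hy, inv_mul_cancel₀ hxo]
    obtain ⟨c, hc0, hc⟩ := hcase _ y hyo rfl
    obtain ⟨d, hd0, hd⟩ := hf.smul (hne hyo) hxo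
    have hxy : x o • y = x := by rw [hy, smul_smul, mul_inv_cancel₀ hxo, one_smul]
    rw [hxy, hc] at hd
    refine ⟨d * c * (σ (x o))⁻¹, mul_ne_zero (mul_ne_zero hd0 hc0) (inv_ne_zero (by simpa using hxo)), ?_⟩
    rw [hd]
    funext i
    have hσo : σ (x o) ≠ 0 := by simpa using hxo
    have hxi : σ (x i) = σ (x o) * σ (y i) := by
      rw [← map_mul]
      exact congrArg σ (congrFun hxy i).symm
    simp only [Pi.smul_apply, smul_eq_mul, Function.comp_apply, hxi, h]
    by_cases hi : i = o
    · subst hi; simp [hyo]; field_simp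
    · simp [hi, hjτ i hi, hσ]; field_simp [show τ (x o) ≠ 0 from hσo]

/-- The fundamental theorem of projective geometry. -/
theorem IsCollineation.exists_semilinear (hf : IsCollineation f) (hcard : 3 ≤ Fintype.card ι) :
    ∃ (g : GL ι F) (σ : F ≃+* F), ∀ x, x ≠ 0 → ∃ c : F, c ≠ 0 ∧ f x = c • ((g : Matrix ι ι F) *ᵥ (σ ∘ x)) := by
  classical
  have hspan := hf.span_eq_top
  have hind : LinearIndependent F (fun i => f (Pi.single i 1)) :=
    linearIndependent_of_top_le_span_of_card_eq_finrank hspan.ge (by simp)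
  let B : Module.Basis ι F (ι → F) := Module.Basis.mk hind hspan.ge
  have hB : ∀ i, B i = f (Pi.single i 1) := fun i => by simp [B]
  obtain ⟨o⟩ : Nonempty ι := Fintype.card_pos_iff.1 (by omega)
  have he : ∀ i, (Pi.single i 1 : ι → F) ≠ 0 := single_one_ne_zero
  -- scale the frame
  have hcoef : ∀ i, i ≠ o → ∃ a b : F, a ≠ 0 ∧ b ≠ 0 ∧
      f (Pi.single o 1 + Pi.single i 1) = a • B o + b • B i := by
    intro i hi
    have hx : (Pi.single o 1 + Pi.single i 1 : ι → F) ≠ 0 := fun h0 => by
      simpa [hi.symm] using congrFun h0 o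
    obtain ⟨a, b, hab⟩ := hf.line _ _ _ (he o) (he i) hx ⟨1, 1, by simp⟩
    refine ⟨a, b, ?_, ?_, by rw [hab, hB, hB]⟩
    · rintro rfl
      obtain ⟨c, hc⟩ := hf.inj _ _ hx (he i) ⟨b, by simpa using hab⟩
      simpa [hi.symm] using congrFun hc o
    · rintro rfl
      obtain ⟨c, hc⟩ := hf.inj _ _ hx (he o) ⟨a, by simpa using hab⟩
      simpa [hi] using congrFun hc i
  choose! a b ha hb hab using hcoef
  let w : ι → Fˣ := fun i => if hi : i = o then 1 else Units.mk0 (b i / a i) (div_ne_zero (hb i hi) (ha i hi))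
  let B' : Module.Basis ι F (ι → F) := B.unitsSMul w
  let e : (ι → F) ≃ₗ[F] (ι → F) := B'.equivFun
  have he1 : ∀ i, e (f (Pi.single i 1)) = ((w i : F))⁻¹ • Pi.single i 1 := by
    intro i
    have h1 : e (B' i) = Pi.single i 1 := by
      funext j
      simp [e, Finsupp.single_apply, Pi.single_apply, eq_comm]
    rw [← hB, ← h1, ← map_smul]
    congr 1
    rw [Module.Basis.unitsSMul_apply, Units.smul_def, smul_smul, inv_mul_cancel₀ (w i).ne_zero, one_smul]
  obtain ⟨σ, hσ⟩ := (hf.comp_linear e).exists_ringEquiv o hcard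
    (fun i => ⟨_, he1 i⟩)
    (fun i hi => by
      refine ⟨a i, ?_⟩
      rw [hab i hi, map_add, map_smul, map_smul, hB, hB, he1, he1]
      have : (w o : F) = 1 := by simp [w]
      rw [this, inv_one, one_smul, smul_add, smul_smul]
      congr 2
      simp only [w, dif_neg hi, Units.val_mk0]
      field_simp [ha i hi, hb i hi])
  refine ⟨Matrix.GeneralLinearGroup.mkOfDetNeZero (LinearMap.toMatrix' e.symm.toLinearMap) ?_, σ, fun x hx => ?_⟩
  · exact ((Matrix.isUnit_iff_isUnit_det _).1 (IsUnit.of_mul_eq_one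
      (LinearMap.toMatrix' e.toLinearMap) (by rw [← LinearMap.toMatrix'_comp]; simp))).ne_zero
  · obtain ⟨c, hc0, hc⟩ := hσ x hx
    refine ⟨c, hc0, ?_⟩
    change f x = c • (LinearMap.toMatrix' e.symm.toLinearMap *ᵥ (σ ∘ x))
    rw [LinearMap.toMatrix'_mulVec, ← map_smul, ← hc]
    simp

end CfsgLib.Collineation
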